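import Groth.Agent.S3568
import Groth.Agent.Ega43.DvrScheme
import Groth.Agent.CycB.ImageInt

/-!
# Extension of generic sections of proper morphisms over a normal base

`f : Y ⟶ X` proper, `X` integral, locally Noetherian and normal, `s : Spec K(X) ⟶ Y` a generic section. If the
specializations of `s` along discrete valuation rings only depend on the point of `X`, then `s` extends to a
section over `X`.
-/

set_option autoImplicit false
universe u
open CategoryTheory CategoryTheory.Limits AlgebraicGeometry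

noncomputable section

namespace K234.GraphExt

open IsLocalRing

/-- Two points with values in a field agree if they agree over an extension. -/
theorem eq_of_ext {Y : Scheme.{u}} {L M : Type u} [Field L] [Field M] (j : L →+* M)
    {y y' : Spec (.of L) ⟶ Y} (h : Spec.map (CommRingCat.ofHom j) ≫ y = Spec.map (CommRingCat.ofHom j) ≫ y') :
    y = y' := by
  have h1 : Flat (Spec.map (CommRingCat.ofHom j)) := by
    rw [Flat.SpecMap_iff]
    algebraize [j]
    exact (inferInstance : Module.Flat L M)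
  have h2 : Surjective (Spec.map (CommRingCat.ofHom j)) := by
    refine ⟨fun x => ⟨closedPoint M, ?_⟩⟩
    exact Subsingleton.elim (α := PrimeSpectrum L) _ _
  have : Epi (Spec.map (CommRingCat.ofHom j)) := Flat.epi_of_flat_of_surjective _
  rwa [cancel_epi] at h

/-- Points are the images of geometric points. -/
theorem exists_geom {Y : Scheme.{u}} (y : Y) : ∃ (L : Type u) (_ : Field L) (_ : IsAlgClosed L)
    (a : Spec (.of L) ⟶ Y), ∀ t : ↥(Spec (.of L)), a t = y := by
  refine ⟨AlgebraicClosure (Y.residueField y), inferInstance, inferInstance,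
    Spec.map (CommRingCat.ofHom (algebraMap (Y.residueField y) (AlgebraicClosure (Y.residueField y)))) ≫
      Y.fromSpecResidueField y, fun t => ?_⟩
  rw [Scheme.Hom.comp_apply]
  exact Scheme.fromSpecResidueField_apply _ _

/-- Universal injectivity by points with values in algebraically closed fields. -/
theorem universallyInjective_of_pts {Y X : Scheme.{u}} (f : Y ⟶ X)
    (h : ∀ (L : Type u) [Field L] [IsAlgClosed L] (y y' : Spec (.of L) ⟶ Y), y ≫ f = y' ≫ f → y = y') :
    UniversallyInjective f := by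
  rw [UniversallyInjective.iff_diagonal]
  refine ⟨fun z => ?_⟩
  obtain ⟨L, _, _, a, ha⟩ := exists_geom z
  have h1 : a ≫ pullback.fst f f = a ≫ pullback.snd f f :=
    h L _ _ (by rw [Category.assoc, Category.assoc, pullback.condition])
  have h2 : a = (a ≫ pullback.fst f f) ≫ pullback.diagonal f := by
    apply pullback.hom_ext
    · rw [Category.assoc, pullback.diagonal_fst, Category.comp_id]
    · rw [Category.assoc, pullback.diagonal_snd, Category.comp_id, h1]
  obtain ⟨t⟩ : Nonempty ↥(Spec (.of L)) := ⟨closedPoint L⟩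
  refine ⟨(a ≫ pullback.fst f f) t, ?_⟩
  rw [← Scheme.Hom.comp_apply, ← h2, ha]

/-- A common extension of two field-valued points with the same image. -/
theorem exists_common {Y : Scheme.{u}} {L M : Type u} [Field L] [Field M] (y : Spec (.of L) ⟶ Y)
    (y' : Spec (.of M) ⟶ Y) (t : ↥(Spec (.of L))) (t' : ↥(Spec (.of M))) (h : y t = y' t') :
    ∃ (Ω : Type u) (_ : Field Ω) (_ : IsAlgClosed Ω) (i : L →+* Ω) (j : M →+* Ω),
      Spec.map (CommRingCat.ofHom i) ≫ y = Spec.map (CommRingCat.ofHom j) ≫ y' := by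
  obtain ⟨z, -, -⟩ := Scheme.Pullback.exists_preimage_pullback (f := y) (g := y') _ _ h
  obtain ⟨Ω, _, _, a, -⟩ := exists_geom z
  refine ⟨Ω, inferInstance, inferInstance, (Spec.preimage (a ≫ pullback.fst y y')).hom,
    (Spec.preimage (a ≫ pullback.snd y y')).hom, ?_⟩
  have h1 : Spec.map (CommRingCat.ofHom (Spec.preimage (a ≫ pullback.fst y y')).hom) = a ≫ pullback.fst y y' :=
    Spec.map_preimage _
  have h2 : Spec.map (CommRingCat.ofHom (Spec.preimage (a ≫ pullback.snd y y')).hom) = a ≫ pullback.snd y y' :=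
    Spec.map_preimage _
  rw [h1, h2, Category.assoc, Category.assoc, pullback.condition]

variable {X Y : Scheme.{u}} (f : Y ⟶ X) [IsIntegral X] (s : Spec X.functionField ⟶ Y)

/-- The closed point of the spectrum of the function field. -/
abbrev pt (X : Scheme.{u}) [IsIntegral X] : ↥(Spec X.functionField) := closedPoint X.functionField

theorem eq_pt (t : ↥(Spec X.functionField)) : t = pt X :=
  Subsingleton.elim (α := PrimeSpectrum X.functionField) _ _

theorem f_s (hs : s ≫ f = X.fromSpecStalk (genericPoint X)) (t : ↥(Spec X.functionField)) :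
    f (s t) = genericPoint X := by
  rw [← Scheme.Hom.comp_apply, hs, eq_pt t]
  exact Scheme.fromSpecStalk_closedPoint

/-- The points of the closure of `s` over the generic point. -/
theorem eq_of_generic [IsSeparated f] (hs : s ≫ f = X.fromSpecStalk (genericPoint X)) {y : Y}
    (t : ↥(Spec X.functionField)) (h : s t ⤳ y) (hy : f y = genericPoint X) : y = s t := by
  let g := X.fromSpecStalk (genericPoint X)
  obtain ⟨σ, h0, hσ⟩ : ∃ σ : Spec X.functionField ⟶ pullback f g, σ ≫ pullback.fst f g = s ∧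
    σ ≫ pullback.snd f g = 𝟙 _ :=
    ⟨pullback.lift s (𝟙 _) (by rw [hs, Category.id_comp]), pullback.lift_fst _ _ _, pullback.lift_snd _ _ _⟩
  have hc : IsClosedImmersion σ := by
    have h1 : IsClosedImmersion (σ ≫ pullback.snd f g) := by rw [hσ]; infer_instance
    exact IsClosedImmersion.of_comp σ (pullback.snd f g)
  obtain ⟨p, hp1, hp2⟩ := Scheme.Pullback.exists_preimage_pullback (f := f) (g := g) y (pt X)
    (hy.trans Scheme.fromSpecStalk_closedPoint.symm)
  have h1 : (pullback.fst f g) (σ t) = s t := by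
    rw [← Scheme.Hom.comp_apply, h0]
  have hemb : Topology.IsEmbedding (pullback.fst f g) := (pullback.fst f g).isEmbedding
  have h2 : σ t ⤳ p := by
    rw [← hemb.toIsInducing.specializes_iff, h1, hp1]
    exact h
  have hcl : IsClosed (Set.range σ) := hc.isClosedEmbedding.isClosed_range
  obtain ⟨q, hq⟩ : p ∈ Set.range σ := h2.mem_closed hcl ⟨_, rfl⟩
  have h4 : q = t := (eq_pt q).trans (eq_pt t).symm
  rw [← hp1, ← hq, h4, h1]

/-- The specializations of `s` along discrete valuation rings only depend on the point of `X`. -/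
def Hyp : Prop :=
  ∀ (L : Type u) [Field L] [IsAlgClosed L]
    (R₁ : Type u) [CommRing R₁] [IsDomain R₁] [IsDiscreteValuationRing R₁] (y₁ : Spec (.of R₁) ⟶ Y)
    (b₁ : X.functionField →+* FractionRing R₁)
    (_ : Spec.map (CommRingCat.ofHom (algebraMap R₁ (FractionRing R₁))) ≫ y₁ = Spec.map (CommRingCat.ofHom b₁) ≫ s)
    (c₁ : R₁ →+* L) (_ : IsLocalHom c₁)
    (R₂ : Type u) [CommRing R₂] [IsDomain R₂] [IsDiscreteValuationRing R₂] (y₂ : Spec (.of R₂) ⟶ Y)
    (b₂ : X.functionField →+* FractionRing R₂)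
    (_ : Spec.map (CommRingCat.ofHom (algebraMap R₂ (FractionRing R₂))) ≫ y₂ = Spec.map (CommRingCat.ofHom b₂) ≫ s)
    (c₂ : R₂ →+* L) (_ : IsLocalHom c₂),
    Spec.map (CommRingCat.ofHom c₁) ≫ y₁ ≫ f = Spec.map (CommRingCat.ofHom c₂) ≫ y₂ ≫ f →
    Spec.map (CommRingCat.ofHom c₁) ≫ y₁ = Spec.map (CommRingCat.ofHom c₂) ≫ y₂

section Dvr

variable {Γ : Scheme.{u}} (s' : Spec X.functionField ⟶ Γ)

/-- Discrete valuation rings through the points of the closure. -/
theorem exists_dvr [IsLocallyNoetherian Γ] (h : Γ ⟶ X) (h' : s' ≫ h = X.fromSpecStalk (genericPoint X))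
    (hgen : ∀ γ : Γ, s' (pt X) ⤳ γ) (γ : Γ) (hγ : s' (pt X) ≠ γ) :
    ∃ (R : Type u) (_ : CommRing R) (_ : IsDomain R) (_ : IsDiscreteValuationRing R) (g : Spec (.of R) ⟶ Γ)
      (b : X.functionField →+* FractionRing R) (M : Type u) (_ : Field M) (c : R →+* M), IsLocalHom c ∧
      Spec.map (CommRingCat.ofHom (algebraMap R (FractionRing R))) ≫ g = Spec.map (CommRingCat.ofHom b) ≫ s' ∧
      ∀ t : ↥(Spec (.of M)), (Spec.map (CommRingCat.ofHom c) ≫ g) t = γ := by
  have hsur : Function.Surjective (Scheme.stalkClosedPointTo s').hom := by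
    have h1 : Function.Surjective (Scheme.stalkClosedPointTo (s' ≫ h)).hom := by
      rw [h', Scheme.stalkClosedPointTo_fromSpecStalk]
      exact (ConcreteCategory.bijective_of_isIso (X.presheaf.stalkCongr _).hom).2
    rw [Scheme.stalkClosedPointTo_comp] at h1
    exact Function.Surjective.of_comp (g := (h.stalkMap _).hom) h1
  let φ : Γ.residueField (s' (pt X)) ⟶ CommRingCat.of X.functionField :=
    Γ.descResidueField (K := X.functionField) (Scheme.stalkClosedPointTo s')
  have hφ : Spec.map φ ≫ Γ.fromSpecResidueField (s' (pt X)) = s' :=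
    Scheme.descResidueField_stalkClosedPointTo_fromSpecResidueField _ _ _
  have hφs : Function.Surjective φ.hom := by
    have h2 : Function.Surjective (Γ.residue _ ≫ φ).hom := by
      rw [Scheme.residue_descResidueField]
      exact hsur
    exact Function.Surjective.of_comp (g := (Γ.residue _).hom) h2
  obtain ⟨R, i1, i2, i3, i4, i5, g, hg1, hg2⟩ := Groth.Agent.Ega43.DvrScheme.exists_dvr_of_specializes (hgen γ) hγ
    X.functionField φ (RingHom.FiniteType.essFiniteType (RingHom.FiniteType.of_surjective _ hφs))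
  let e : X.functionField ≃ₐ[R] FractionRing R := (FractionRing.algEquiv R X.functionField).symm
  refine ⟨R, i1, i2, i3, g, e.toRingEquiv.toRingHom, ResidueField R, inferInstance, residue R, inferInstance, ?_, ?_⟩
  · rw [hφ] at hg2
    rw [← hg2, ← Category.assoc, ← Spec.map_comp, ← CommRingCat.ofHom_comp]
    congr 3
    ext x
    exact (e.commutes x).symm
  · intro t
    rw [Scheme.Hom.comp_apply, ← hg1]
    congr 1
    exact IsLocalRing.PrimeSpectrum.comap_residue _ t

end Dvr

theorem quasiCompact_pt (t : Spec X.functionField ⟶ Y) : QuasiCompact t := by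
  have := Groth.Agent.Ega2.Normal.subsingleton_spec_functionField X
  exact ⟨fun U hU hc => Set.Subsingleton.isCompact (Set.subsingleton_of_subsingleton)⟩

/-- The closure of `s` is universally injective over `X`. -/
theorem eq_of_pts [IsLocallyNoetherian X] [IsProper f] (hs : s ≫ f = X.fromSpecStalk (genericPoint X))
    (H : Hyp f s) {Γ : Scheme.{u}} [IsIntegral Γ] (ι : Γ ⟶ Y) [IsClosedImmersion ι] (s' : Spec X.functionField ⟶ Γ)
    (hι : s' ≫ ι = s) (hgen : ∀ γ : Γ, s' (pt X) ⤳ γ) (L : Type u) [Field L] [IsAlgClosed L]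
    (y y' : Spec (.of L) ⟶ Γ) (hyy : y ≫ ι ≫ f = y' ≫ ι ≫ f) : y = y' := by
  have hΓ : IsLocallyNoetherian Γ := LocallyOfFiniteType.isLocallyNoetherian (ι ≫ f)
  have hs' : s' ≫ ι ≫ f = X.fromSpecStalk (genericPoint X) := by rw [← Category.assoc, hι, hs]
  obtain ⟨t⟩ : Nonempty ↥(Spec (.of L)) := ⟨closedPoint L⟩
  have hyt : (ι ≫ f) (y t) = (ι ≫ f) (y' t) := by
    rw [← Scheme.Hom.comp_apply, ← Scheme.Hom.comp_apply, hyy]
  by_cases hx : (ι ≫ f) (y t) = genericPoint X
  · -- over the generic point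
    have e1 : y t = s' (pt X) := eq_of_generic (ι ≫ f) s' hs' _ (hgen _) hx
    have e2 : y' t = s' (pt X) := eq_of_generic (ι ≫ f) s' hs' _ (hgen _) (hyt ▸ hx)
    obtain ⟨Ω₁, _, _, i₁, j₁, h₁⟩ := exists_common (M := X.functionField) y s' t (pt X) e1
    obtain ⟨t₃⟩ : Nonempty ↥(Spec (.of Ω₁)) := ⟨closedPoint Ω₁⟩
    obtain ⟨Ω, _, _, i₂, j₂, h₂⟩ := exists_common (M := X.functionField) (Spec.map (CommRingCat.ofHom i₁) ≫ y')
      s' t₃ (pt X) (by
        rw [← e2, Scheme.Hom.comp_apply]
        congr 1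
        exact Subsingleton.elim (α := PrimeSpectrum L) _ _)
    have k1 : Spec.map (CommRingCat.ofHom (i₂.comp j₁)) ≫ s' = Spec.map (CommRingCat.ofHom (i₂.comp i₁)) ≫ y := by
      rw [CommRingCat.ofHom_comp, CommRingCat.ofHom_comp, Spec.map_comp, Spec.map_comp, Category.assoc,
        Category.assoc, h₁]
    have k2 : Spec.map (CommRingCat.ofHom j₂) ≫ s' = Spec.map (CommRingCat.ofHom (i₂.comp i₁)) ≫ y' := by
      rw [CommRingCat.ofHom_comp, Spec.map_comp, Category.assoc, h₂]
    have k3 : Spec.map (CommRingCat.ofHom (i₂.comp j₁)) = Spec.map (CommRingCat.ofHom j₂) := by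
      have h5 : Spec.map (CommRingCat.ofHom (i₂.comp j₁)) ≫ (s' ≫ ι ≫ f) =
          Spec.map (CommRingCat.ofHom j₂) ≫ (s' ≫ ι ≫ f) := by
        rw [← Category.assoc, k1, ← Category.assoc (Spec.map (CommRingCat.ofHom j₂)), k2, Category.assoc,
          Category.assoc, hyy]
      rw [hs'] at h5
      exact (cancel_mono (X.fromSpecStalk (genericPoint X))).mp h5
    exact eq_of_ext _ (k1.symm.trans ((congrArg (· ≫ s') k3).trans k2))
  · have hne : ∀ γ : Γ, (ι ≫ f) γ ≠ genericPoint X → s' (pt X) ≠ γ := by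
      rintro γ hγ rfl
      exact hγ (f_s (ι ≫ f) s' hs' _)
    obtain ⟨R₁, _, _, _, g₁, b₁, M₁, _, c₁, hc₁, hb₁, ht₁⟩ := exists_dvr s' (ι ≫ f) hs' hgen (y t) (hne _ hx)
    obtain ⟨R₂, _, _, _, g₂, b₂, M₂, _, c₂, hc₂, hb₂, ht₂⟩ := exists_dvr s' (ι ≫ f) hs' hgen (y' t) (hne _ (hyt ▸ hx))
    obtain ⟨t₁⟩ : Nonempty ↥(Spec (.of M₁)) := ⟨closedPoint M₁⟩
    obtain ⟨t₂⟩ : Nonempty ↥(Spec (.of M₂)) := ⟨closedPoint M₂⟩
    obtain ⟨Ω₁, _, _, i₁, j₁, h₁⟩ := exists_common y (Spec.map (CommRingCat.ofHom c₁) ≫ g₁) t t₁ (ht₁ _).symm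
    obtain ⟨t₃⟩ : Nonempty ↥(Spec (.of Ω₁)) := ⟨closedPoint Ω₁⟩
    obtain ⟨Ω, _, _, i₂, j₂, h₂⟩ := exists_common (Spec.map (CommRingCat.ofHom i₁) ≫ y')
      (Spec.map (CommRingCat.ofHom c₂) ≫ g₂) t₃ t₂ (by
        rw [ht₂, Scheme.Hom.comp_apply]
        congr 1
        exact Subsingleton.elim (α := PrimeSpectrum L) _ _)
    have k1 : Spec.map (CommRingCat.ofHom ((i₂.comp j₁).comp c₁)) ≫ g₁ =
        Spec.map (CommRingCat.ofHom (i₂.comp i₁)) ≫ y := by
      simp only [CommRingCat.ofHom_comp, Spec.map_comp, Category.assoc] at h₁ ⊢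
      rw [h₁]
    have k2 : Spec.map (CommRingCat.ofHom (j₂.comp c₂)) ≫ g₂ =
        Spec.map (CommRingCat.ofHom (i₂.comp i₁)) ≫ y' := by
      simp only [CommRingCat.ofHom_comp, Spec.map_comp, Category.assoc] at h₂ ⊢
      rw [h₂]
    have l1 : IsLocalHom ((i₂.comp j₁).comp c₁) := RingHom.isLocalHom_comp _ _
    have l2 : IsLocalHom (j₂.comp c₂) := RingHom.isLocalHom_comp _ _
    have h3 := H Ω R₁ (g₁ ≫ ι) b₁ (by rw [← Category.assoc, hb₁, Category.assoc, hι]) ((i₂.comp j₁).comp c₁) l1
      R₂ (g₂ ≫ ι) b₂ (by rw [← Category.assoc, hb₂, Category.assoc, hι]) (j₂.comp c₂) l2 (by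
        simp only [Category.assoc]
        rw [← Category.assoc, k1, ← Category.assoc (Spec.map (CommRingCat.ofHom (j₂.comp c₂))), k2]
        simp only [Category.assoc]
        rw [hyy])
    have h4 : Spec.map (CommRingCat.ofHom (i₂.comp i₁)) ≫ y = Spec.map (CommRingCat.ofHom (i₂.comp i₁)) ≫ y' := by
      rw [← cancel_mono ι, ← k1, ← k2, Category.assoc, Category.assoc]
      exact h3
    exact eq_of_ext _ h4

/-- The closure of a generic section. -/
theorem exists_closure [IsLocallyNoetherian X] [IsProper f]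
    (hs : s ≫ f = X.fromSpecStalk (genericPoint X)) (H : Hyp f s) :
    ∃ (Z : Scheme.{u}) (_ : IsIntegral Z) (z : Z ⟶ Y) (_ : IsClosedImmersion z) (s' : Spec X.functionField ⟶ Z),
      s' ≫ z = s ∧ (∀ γ : Z, s' (pt X) ⤳ γ) ∧ IsFinite (z ≫ f) ∧ UniversallyInjective (z ≫ f) ∧
      Surjective (z ≫ f) := by
  have := quasiCompact_pt s
  have hint : IsIntegral s.image := Groth.Agent.Ega2.Normal.isIntegral_image s
  have hsι : s.toImage ≫ s.imageι = s := Scheme.Hom.toImage_imageι s
  have hgen : ∀ γ : s.image, s.toImage (pt X) ⤳ γ := by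
    intro γ
    have hd : closure (Set.range s.toImage) = Set.univ :=
      (Scheme.Hom.denseRange s.toImage).closure_range
    have hr : Set.range s.toImage = {s.toImage (pt X)} := by
      ext z
      constructor
      · rintro ⟨w, rfl⟩
        rw [eq_pt w]
        rfl
      · rintro rfl
        exact ⟨_, rfl⟩
    rw [specializes_iff_mem_closure, ← hr, hd]
    trivial
  have hinj : UniversallyInjective (s.imageι ≫ f) :=
    universallyInjective_of_pts _ fun L _ _ y y' h => eq_of_pts f s hs H s.imageι s.toImage hsι hgen L y y' h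
  have hi : IsIntegralHom (s.imageι ≫ f) :=
    Groth.Agent.Ega2.H277.UnivHomeo.isIntegralHom_of_universallyClosed_of_universallyInjective _
  have hfin : IsFinite (s.imageι ≫ f) := (IsFinite.iff_isIntegralHom_and_locallyOfFiniteType _).mpr
    ⟨hi, inferInstance⟩
  have hsurj : Surjective (s.imageι ≫ f) := by
    have hcl : IsClosed (Set.range (s.imageι ≫ f)) := (s.imageι ≫ f).isClosedMap.isClosed_range
    have hmem : genericPoint X ∈ Set.range (s.imageι ≫ f) := ⟨s.toImage (pt X), by
      rw [← Scheme.Hom.comp_apply, ← Category.assoc, hsι]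
      exact (Scheme.Hom.comp_apply _ _ _).trans (f_s f s hs _)⟩
    refine ⟨fun x => ?_⟩
    exact (genericPoint_specializes x).mem_closed hcl hmem
  exact ⟨s.image, hint, s.imageι, inferInstance, s.toImage, hsι, hgen, hfin, hinj, hsurj⟩

/-- **Extension of generic sections over a normal base.** -/
theorem exists_section [IsLocallyNoetherian X] [IsProper f] (hX : Pi1.IsNormalScheme X)
    (hs : s ≫ f = X.fromSpecStalk (genericPoint X)) (H : Hyp f s) :
    ∃ σ : X ⟶ Y, σ ≫ f = 𝟙 X ∧ X.fromSpecStalk (genericPoint X) ≫ σ = s := by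
  obtain ⟨Z, _, z, _, s', hz, hgen, _, _, _⟩ := exists_closure f s hs H
  have hc : s' ≫ (z ≫ f) = X.fromSpecStalk (genericPoint X) := by
    rw [← Category.assoc, hz, hs]
  have : IsIso (z ≫ f) := Groth.Agent.Ega2.Normal.isIso_of_functionField_section hX (z ≫ f) s' hc
  refine ⟨inv (z ≫ f) ≫ z, by simp, ?_⟩
  rw [← hc, Category.assoc, IsIso.hom_inv_id_assoc, hz]

end K234.GraphExt
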