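import Groth.Agent.SGA7.K564.SmoothUnibr
import Groth.Agent.Etcore.SmoothRed
import Groth.Agent.Vanish.K31.Sect

/-!
# Smooth schemes over a reduced geometrically unibranch base are locally integral
-/

set_option autoImplicit false
universe u
open CategoryTheory CategoryTheory.Limits AlgebraicGeometry

namespace K234.UniDom

/-- The local rings of a smooth scheme over a reduced geometrically unibranch scheme are domains. -/
theorem isDomain_stalk {X S : Scheme.{u}} (f : X ⟶ S) [Smooth f] [IsReduced S]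
    (hS : ∀ s : S, CAlg2.IsGeomUnibranch (S.presheaf.stalk s)) (x : X) : IsDomain (X.presheaf.stalk x) := by
  have hred : IsReduced X := Groth.Agent.Etcore.SmoothRed.isReduced_of_smooth f
  obtain ⟨z, hz⟩ := K564.SmoothUnibr.exists_generic f x (hS _)
  obtain ⟨ζ, hζ⟩ : z ∈ Set.range (X.fromSpecStalk x) := by
    rw [Scheme.range_fromSpecStalk]
    exact hz x specializes_rfl
  have h1 : ∀ p : ↥(Spec (X.presheaf.stalk x)), ζ.asIdeal ≤ p.asIdeal := by
    intro p
    have h2 : (X.fromSpecStalk x) p ⤳ x := by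
      have : (X.fromSpecStalk x) p ∈ Set.range (X.fromSpecStalk x) := ⟨p, rfl⟩
      rwa [Scheme.range_fromSpecStalk] at this
    have h3 := hz _ h2
    rw [← hζ, (X.fromSpecStalk x).isEmbedding.isInducing.specializes_iff] at h3
    exact (PrimeSpectrum.le_iff_specializes _ _).mpr h3
  have h4 : ζ.asIdeal ≤ nilradical (X.presheaf.stalk x) := by
    intro a ha
    rw [nilradical_eq_sInf, Ideal.mem_sInf]
    intro I hI
    exact h1 ⟨I, hI⟩ ha
  have h5 : nilradical (X.presheaf.stalk x) = ⊥ := nilradical_eq_zero _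
  have h6 : ζ.asIdeal = ⊥ := le_bot_iff.mp (h4.trans h5.le)
  have h7 : (⊥ : Ideal (X.presheaf.stalk x)).IsPrime := h6 ▸ ζ.isPrime
  exact IsDomain.of_bot_isPrime _

/-- Integral neighbourhoods. -/
theorem exists_integral_nhd {X S : Scheme.{u}} (f : X ⟶ S) [Smooth f] [IsReduced S] [IsLocallyNoetherian X]
    (hS : ∀ s : S, CAlg2.IsGeomUnibranch (S.presheaf.stalk s)) (x : X) :
    ∃ V : X.Opens, x ∈ V ∧ IsIntegral (V : Scheme.{u}) := by
  have := isDomain_stalk f hS x
  obtain ⟨V, h1, -, h2⟩ := K31.Sect.exists_integral_nhd x ⊤ trivial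
  exact ⟨V, h1, h2⟩

end K234.UniDom
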