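import Groth.Agent.AbSch.K234.GraphExt
import Groth.Agent.AbSch.K234.UniDom
import Groth.Agent.AbSch.K630.Nrm
import Groth.Agent.NonAbH1.K553.SubTorsMain

/-!
# Extension of generic morphisms to the normalization of a geometrically unibranch base

`S` integral, locally Noetherian and geometrically unibranch, `G` its generic point, `X` smooth and `A` proper over
`S`. A morphism `G ⊗ X ⟶ A` whose specializations along discrete valuation rings only depend on the point of `X`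
extends to `nrm G ⊗ X ⟶ A`.
-/

set_option autoImplicit false
universe u
open CategoryTheory CategoryTheory.Limits MonoidalCategory CartesianMonoidalCategory AlgebraicGeometry

noncomputable section

namespace K234.NrmExt

open K630.AbExt K234.GraphExt

variable {S : Scheme.{u}}

/-- Specializations along discrete valuation rings only depend on the point of `X`. -/
def DvrHyp {G X A : Over S} (a : G ⊗ X ⟶ A) : Prop :=
  ∀ (L : Type u) [Field L] [IsAlgClosed L]
    (R₁ : Type u) [CommRing R₁] [IsDomain R₁] [IsDiscreteValuationRing R₁]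
    (x₁ : Spec (.of R₁) ⟶ X.left) (a₁ : Spec (.of R₁) ⟶ A.left) (_ : x₁ ≫ X.hom = a₁ ≫ A.hom)
    (g₁ : Spec (.of (FractionRing R₁)) ⟶ (G ⊗ X).left)
    (_ : g₁ ≫ (snd G X).left = Spec.map (CommRingCat.ofHom (algebraMap R₁ (FractionRing R₁))) ≫ x₁)
    (_ : g₁ ≫ a.left = Spec.map (CommRingCat.ofHom (algebraMap R₁ (FractionRing R₁))) ≫ a₁)
    (c₁ : R₁ →+* L) (_ : IsLocalHom c₁)
    (R₂ : Type u) [CommRing R₂] [IsDomain R₂] [IsDiscreteValuationRing R₂]
    (x₂ : Spec (.of R₂) ⟶ X.left) (a₂ : Spec (.of R₂) ⟶ A.left) (_ : x₂ ≫ X.hom = a₂ ≫ A.hom)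
    (g₂ : Spec (.of (FractionRing R₂)) ⟶ (G ⊗ X).left)
    (_ : g₂ ≫ (snd G X).left = Spec.map (CommRingCat.ofHom (algebraMap R₂ (FractionRing R₂))) ≫ x₂)
    (_ : g₂ ≫ a.left = Spec.map (CommRingCat.ofHom (algebraMap R₂ (FractionRing R₂))) ≫ a₂)
    (c₂ : R₂ →+* L) (_ : IsLocalHom c₂),
    Spec.map (CommRingCat.ofHom c₁) ≫ x₁ = Spec.map (CommRingCat.ofHom c₂) ≫ x₂ →
    Spec.map (CommRingCat.ofHom c₁) ≫ a₁ = Spec.map (CommRingCat.ofHom c₂) ≫ a₂

theorem DvrHyp.restrict {G X A : Over S} {a : G ⊗ X ⟶ A} (H : DvrHyp a) {X₀ : Over S} (j : X₀ ⟶ X) :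
    DvrHyp ((G ◁ j) ≫ a) := by
  intro L _ _ R₁ _ _ _ x₁ a₁ h₁ g₁ k₁ l₁ c₁ m₁ R₂ _ _ _ x₂ a₂ h₂ g₂ k₂ l₂ c₂ m₂ h
  refine H L R₁ (x₁ ≫ j.left) a₁ (by rw [Category.assoc, Over.w, h₁]) (g₁ ≫ (G ◁ j).left) ?_ ?_ c₁ m₁
    R₂ (x₂ ≫ j.left) a₂ (by rw [Category.assoc, Over.w, h₂]) (g₂ ≫ (G ◁ j).left) ?_ ?_ c₂ m₂ ?_
  · rw [Category.assoc, ← Over.comp_left, whiskerLeft_snd, Over.comp_left, ← Category.assoc, k₁, Category.assoc]
  · rw [Category.assoc, ← Over.comp_left, l₁]
  · rw [Category.assoc, ← Over.comp_left, whiskerLeft_snd, Over.comp_left, ← Category.assoc, k₂, Category.assoc]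
  · rw [Category.assoc, ← Over.comp_left, l₂]
  · rw [← Category.assoc, h, Category.assoc]

/-- The generic point of an integral scheme, as an open-like subscheme. -/
abbrev gp (S : Scheme.{u}) [IsIntegral S] : Over S := Over.mk (S.fromSpecStalk (genericPoint S))

theorem exists_factor [IsIntegral S] {X : Scheme.{u}} (f : X ⟶ S) (x : X) (h : f x = genericPoint S) :
    ∃ t : Spec (X.presheaf.stalk x) ⟶ Spec (S.presheaf.stalk (genericPoint S)),
      t ≫ S.fromSpecStalk (genericPoint S) = X.fromSpecStalk x ≫ f := by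
  have key : ∀ s : S, f x = s → ∃ t : Spec (X.presheaf.stalk x) ⟶ Spec (S.presheaf.stalk s),
      t ≫ S.fromSpecStalk s = X.fromSpecStalk x ≫ f := by
    rintro _ rfl
    exact ⟨Spec.map (f.stalkMap x), Scheme.SpecMap_stalkMap_fromSpecStalk f⟩
  exact key _ h

theorem dom_gp (X : Scheme.{u}) [IsIntegral X] : IsSchemeTheoreticallyDominant (X.fromSpecStalk (genericPoint X)) := by
  have : IsDominant (X.fromSpecStalk (genericPoint X)) := by
    refine ⟨?_⟩
    rw [DenseRange, Scheme.range_fromSpecStalk]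
    have h1 : genericPoint X ∈ {x : X | x ⤳ genericPoint X} := specializes_rfl
    intro x
    exact closure_mono (Set.singleton_subset_iff.mpr h1) (genericPoint_specializes x).mem_closure
  exact IsSchemeTheoreticallyDominant.of_isDominant _

theorem flat_fromSpecStalk (Y : Scheme.{u}) (y : Y) : Flat (Y.fromSpecStalk y) := by
  obtain ⟨U, hU, hyU, -⟩ := exists_isAffineOpen_mem_and_subset (x := y) (U := (⊤ : Y.Opens)) trivial
  rw [← hU.fromSpecStalk_eq_fromSpecStalk hyU]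
  dsimp only [IsAffineOpen.fromSpecStalk]
  have : Flat (Spec.map (Y.presheaf.germ U y hyU)) := by
    rw [Flat.SpecMap_iff]
    let : Algebra Γ(Y, U) (Y.presheaf.stalk y) := (Y.presheaf.germ U y hyU).hom.toAlgebra
    have := hU.isLocalization_stalk ⟨y, hyU⟩
    exact IsLocalization.flat (Y.presheaf.stalk y) (hU.primeIdealOf ⟨y, hyU⟩).asIdeal.primeCompl
  have h3 : IsOpenImmersion hU.fromSpec := inferInstance
  have h2 : Flat hU.fromSpec := Flat.instOfIsOpenImmersion _
  exact Flat.comp _ _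

section Local

theorem generic_generic [IsIntegral S] {X : Over S} [IsIntegral X.left] [Flat X.hom] :
    X.hom (genericPoint X.left) = genericPoint S := by
  obtain ⟨y, h1, h2⟩ := Flat.generalizingMap X.hom (genericPoint_specializes (X.hom (genericPoint X.left)))
  rw [← h2]
  congr 1
  exact ((genericPoint_specializes y).antisymm h1).eq

variable [IsIntegral S]

/-- The generic point of `X`, over `S`. -/
abbrev Kx (X : Over S) [IsIntegral X.left] : Over S := Over.mk (X.left.fromSpecStalk (genericPoint X.left) ≫ X.hom)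

/-- The inclusion of the generic point. -/
abbrev gx (X : Over S) [IsIntegral X.left] : Kx X ⟶ X := Over.homMk (X.left.fromSpecStalk (genericPoint X.left))

theorem exists_theta (X : Over S) [IsIntegral X.left] [Flat X.hom] :
    ∃ θ : Kx X ⟶ gp S ⊗ X, θ ≫ snd _ _ = gx X ∧ IsSchemeTheoreticallyDominant θ.left := by
  obtain ⟨t, ht⟩ := exists_factor X.hom (genericPoint X.left) generic_generic
  let t' : Kx X ⟶ gp S := Over.homMk t ht
  let θ : Kx X ⟶ gp S ⊗ X := CartesianMonoidalCategory.lift t' (gx X)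
  have hθ : θ ≫ snd _ _ = gx X := CartesianMonoidalCategory.lift_snd _ _
  refine ⟨θ, hθ, ?_⟩
  have hfl := flat_fromSpecStalk S (genericPoint S)
  have hmono : Mono (snd (gp S) X).left :=
    inferInstanceAs (Mono (pullback.snd (S.fromSpecStalk (genericPoint S)) X.hom))
  have hflat : Flat (snd (gp S) X).left :=
    inferInstanceAs (Flat (pullback.snd (S.fromSpecStalk (genericPoint S)) X.hom))
  have hw : (𝟙 (Kx X).left) ≫ (gx X).left = θ.left ≫ (snd (gp S) X).left := by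
    rw [← Over.comp_left, hθ, Category.id_comp]
  have hpb : IsPullback (𝟙 (Kx X).left) θ.left (gx X).left (snd (gp S) X).left := by
    refine ⟨⟨hw⟩, ⟨PullbackCone.IsLimit.mk _ (fun s => s.fst) (fun s => ?_) (fun s => ?_) (fun s m h1 h2 => ?_)⟩⟩
    · exact Category.comp_id _
    · rw [← cancel_mono (snd (gp S) X).left, Category.assoc, ← hw, Category.id_comp, s.condition]
    · rw [← h1]
      exact (Category.comp_id _).symm
  have h1 : IsSchemeTheoreticallyDominant (gx X).left := dom_gp X.left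
  have h2 : QuasiCompact (gx X).left := inferInstanceAs (QuasiCompact (X.left.fromSpecStalk (genericPoint X.left)))
  exact IsSchemeTheoreticallyDominant.of_isPullback hpb

/-- The local case. -/
theorem exists_ext_local [IsLocallyNoetherian S] {X A : Over S} [IsIntegral X.left] [Smooth X.hom] [IsProper A.hom]
    [QuasiCompact (gp S).hom] [QuasiSeparated (gp S).hom]
    (a : gp S ⊗ X ⟶ A) (H : DvrHyp a) : ∃ a' : nrm (gp S) ⊗ X ⟶ A, (toNrm (gp S) ▷ X) ≫ a' = a := by
  obtain ⟨θ, hθ, hθd⟩ := exists_theta X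
  have hX : IsLocallyNoetherian X.left := LocallyOfFiniteType.isLocallyNoetherian X.hom
  -- the generic section
  let s' : Kx X ⟶ X ⊗ A := CartesianMonoidalCategory.lift (gx X) (θ ≫ a)
  let f : (X ⊗ A).left ⟶ X.left := (fst X A).left
  have hf : IsProper f := inferInstanceAs (IsProper (pullback.fst X.hom A.hom))
  let s : Spec X.left.functionField ⟶ (X ⊗ A).left := s'.left
  have hs1 : s' ≫ fst X A = gx X := CartesianMonoidalCategory.lift_fst _ _
  have hs2 : s' ≫ snd X A = θ ≫ a := CartesianMonoidalCategory.lift_snd _ _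
  have hs : s ≫ f = X.left.fromSpecStalk (genericPoint X.left) := by
    change s'.left ≫ (fst X A).left = _
    rw [← Over.comp_left, hs1]
    rfl
  have hyp : Hyp f s := by
    intro L _ _ R₁ _ _ _ y₁ b₁ hb₁ c₁ hc₁ R₂ _ _ _ y₂ b₂ hb₂ c₂ hc₂ hcc
    have key : ∀ {R : Type u} [CommRing R] [IsDomain R] [IsDiscreteValuationRing R] (y : Spec (.of R) ⟶ (X ⊗ A).left)
        (b : X.left.functionField →+* FractionRing R)
        (_ : Spec.map (CommRingCat.ofHom (algebraMap R (FractionRing R))) ≫ y = Spec.map (CommRingCat.ofHom b) ≫ s),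
        (y ≫ (fst X A).left) ≫ X.hom = (y ≫ (snd X A).left) ≫ A.hom ∧
        (Spec.map (CommRingCat.ofHom b) ≫ θ.left) ≫ (snd (gp S) X).left =
          Spec.map (CommRingCat.ofHom (algebraMap R (FractionRing R))) ≫ y ≫ (fst X A).left ∧
        (Spec.map (CommRingCat.ofHom b) ≫ θ.left) ≫ a.left =
          Spec.map (CommRingCat.ofHom (algebraMap R (FractionRing R))) ≫ y ≫ (snd X A).left := by
      intro R _ _ _ y b hb
      refine ⟨?_, ?_, ?_⟩
      · rw [Category.assoc, Category.assoc, Over.w, Over.w]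
      · rw [Category.assoc, ← Over.comp_left, hθ, ← Category.assoc, hb, Category.assoc]
        congr 1
        exact hs.symm
      · rw [Category.assoc, ← Over.comp_left, ← Category.assoc, hb, Category.assoc, ← hs2, Over.comp_left]
    obtain ⟨p1, p2, p3⟩ := key y₁ b₁ hb₁
    obtain ⟨q1, q2, q3⟩ := key y₂ b₂ hb₂
    have h1 := H L R₁ _ _ p1 _ p2 p3 c₁ hc₁ R₂ _ _ q1 _ q2 q3 c₂ hc₂ hcc
    refine pullback.hom_ext (f := X.hom) (g := A.hom) ?_ ?_
    · rw [Category.assoc, Category.assoc]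
      exact hcc
    · rw [Category.assoc, Category.assoc]
      exact h1
  obtain ⟨Z, _, z, _, t, ht, -, hfin, -, -⟩ := exists_closure f s hs hyp
  -- the closed subscheme as a scheme over `S`
  let Z' : Over S := Over.mk (z ≫ (X ⊗ A).hom)
  let z' : Z' ⟶ X ⊗ A := Over.homMk z
  let w : gp S ⊗ X ⟶ X ⊗ A := CartesianMonoidalCategory.lift (snd (gp S) X) a
  have hw1 : w ≫ fst X A = snd (gp S) X := CartesianMonoidalCategory.lift_fst _ _
  have hw2 : w ≫ snd X A = a := CartesianMonoidalCategory.lift_snd _ _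
  have hθw : θ ≫ w = s' := by
    apply CartesianMonoidalCategory.hom_ext
    · rw [Category.assoc, hw1, hθ, hs1]
    · rw [Category.assoc, hw2, hs2]
  obtain ⟨v, hv⟩ := K553.SubTorsMain.exists_lift_of_dom θ.left w.left z t (by
    rw [← Over.comp_left, hθw, ht])
  let v' : gp S ⊗ X ⟶ Z' := Over.homMk v (by
    change v ≫ z ≫ (X ⊗ A).hom = _
    rw [← Category.assoc, hv, Over.w])
  have hv' : v' ≫ z' = w := Over.OverMorphism.ext hv
  have hint : IsIntegralHom (z' ≫ fst X A).left := by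
    have h1 : IsFinite (z ≫ f) := hfin
    have h2 : IsIntegralHom (z ≫ f) := inferInstance
    exact h2
  obtain ⟨b, hb1, hb2⟩ := exists_lift_nrm (gp S) (z' ≫ fst X A) (𝟙 X) v' (by
    rw [← Category.assoc, hv', hw1, Category.comp_id])
  refine ⟨b ≫ z' ≫ snd X A, ?_⟩
  rw [← Category.assoc, hb2, ← Category.assoc, hv', hw2]

end Local

section Glue

variable (G X A : Over S) [QuasiCompact G.hom] [QuasiSeparated G.hom] (a : G ⊗ X ⟶ A)

/-- Values of local extensions. -/
theorem value {X₀ : Over S} (j : X₀ ⟶ X) (a' : nrm G ⊗ X₀ ⟶ A) (ha' : (toNrm G ▷ X₀) ≫ a' = (G ◁ j) ≫ a)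
    {W D : Over S} (u : W ⟶ nrm G ⊗ X) (k : W ⟶ nrm G ⊗ X₀) (hk : k ≫ (nrm G ◁ j) = u)
    (d : D ⟶ W) (e : D ⟶ G ⊗ X) (hde : d ≫ u = e ≫ (toNrm G ▷ X)) : d ≫ k ≫ a' = e ≫ a := by
  let l : D ⟶ G ⊗ X₀ := CartesianMonoidalCategory.lift (e ≫ fst _ _) (d ≫ k ≫ snd _ _)
  have h1 : l ≫ (toNrm G ▷ X₀) = d ≫ k := by
    apply CartesianMonoidalCategory.hom_ext
    · have h2 := congrArg (· ≫ fst (nrm G) X) hde
      simp only [Category.assoc, whiskerRight_fst, ← hk, whiskerLeft_fst] at h2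
      simp only [l, Category.assoc, whiskerRight_fst, CartesianMonoidalCategory.lift_fst_assoc]
      exact h2.symm
    · simp only [l, Category.assoc, whiskerRight_snd, CartesianMonoidalCategory.lift_snd]
  have h2 : l ≫ (G ◁ j) = e := by
    apply CartesianMonoidalCategory.hom_ext
    · simp only [l, Category.assoc, whiskerLeft_fst, CartesianMonoidalCategory.lift_fst]
    · have h2 := congrArg (· ≫ snd (nrm G) X) hde
      simp only [Category.assoc, whiskerRight_snd, ← hk, whiskerLeft_snd] at h2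
      simp only [l, Category.assoc, whiskerLeft_snd, CartesianMonoidalCategory.lift_snd_assoc]
      exact h2
  rw [← Category.assoc, ← h1, Category.assoc, ha', ← Category.assoc, h2]

/-- Uniqueness of local extensions. -/
theorem unique_local [IsSeparated A.hom] [Flat X.hom] {X₀ X₁ : Over S} (j₀ : X₀ ⟶ X) (a₀ : nrm G ⊗ X₀ ⟶ A)
    (h₀ : (toNrm G ▷ X₀) ≫ a₀ = (G ◁ j₀) ≫ a) (j₁ : X₁ ⟶ X) (a₁ : nrm G ⊗ X₁ ⟶ A)
    (h₁ : (toNrm G ▷ X₁) ≫ a₁ = (G ◁ j₁) ≫ a)
    {W : Over S} (u : W ⟶ nrm G ⊗ X) [Flat u.left] (k₀ : W ⟶ nrm G ⊗ X₀) (hk₀ : k₀ ≫ (nrm G ◁ j₀) = u)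
    (k₁ : W ⟶ nrm G ⊗ X₁) (hk₁ : k₁ ≫ (nrm G ◁ j₁) = u) : k₀ ≫ a₀ = k₁ ≫ a₁ := by
  have hdom : IsSchemeTheoreticallyDominant (toNrm G ▷ X).left ∧ QuasiCompact (toNrm G ▷ X).left := by
    have h2 := dom_whisker (toNrm G) X
    have h3 : (toNrm G ▷ X) = (β_ G X).hom ≫ (X ◁ toNrm G) ≫ (β_ X (nrm G)).hom := by
      rw [BraidedCategory.braiding_naturality_right, SymmetricCategory.symmetry_assoc]
    have h4 : IsIso (β_ G X).hom.left := inferInstanceAs (IsIso ((Over.forget S).map (β_ G X).hom))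
    have h5 : IsIso (β_ X (nrm G)).hom.left := inferInstanceAs (IsIso ((Over.forget S).map (β_ X (nrm G)).hom))
    have h6 := h2.1
    have h7 := h2.2
    rw [h3, Over.comp_left, Over.comp_left]
    exact ⟨inferInstance, inferInstance⟩
  have hd := hdom.1
  have hq := hdom.2
  let Q : Over S := pullback u (toNrm G ▷ X)
  have hpb : IsPullback (pullback.snd u (toNrm G ▷ X)).left (pullback.fst u (toNrm G ▷ X)).left
      (toNrm G ▷ X).left u.left := ((IsPullback.of_hasPullback u (toNrm G ▷ X)).map (Over.forget S)).flip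
  have h2 : IsSchemeTheoreticallyDominant (pullback.fst u (toNrm G ▷ X)).left :=
    IsSchemeTheoreticallyDominant.of_isPullback hpb
  refine hom_ext_of_dom (pullback.fst u (toNrm G ▷ X)) ?_
  rw [value G X A a j₀ a₀ h₀ u k₀ hk₀ (pullback.fst u (toNrm G ▷ X)) (pullback.snd u (toNrm G ▷ X)) pullback.condition,
    value G X A a j₁ a₁ h₁ u k₁ hk₁ (pullback.fst u (toNrm G ▷ X)) (pullback.snd u (toNrm G ▷ X)) pullback.condition]

/-- Glueing of local extensions. -/
theorem exists_glue [IsSeparated A.hom] [Flat X.hom]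
    (h : ∀ x : X.left, ∃ V : X.left.Opens, x ∈ V ∧ ∃ a' : nrm G ⊗ Over.mk (V.ι ≫ X.hom) ⟶ A,
      (toNrm G ▷ _) ≫ a' = (G ◁ (Over.homMk V.ι : Over.mk (V.ι ≫ X.hom) ⟶ X)) ≫ a) :
    ∃ a' : nrm G ⊗ X ⟶ A, (toNrm G ▷ X) ≫ a' = a := by
  choose V hV a' ha' using h
  let N : Over S := nrm G ⊗ X
  let q : N.left ⟶ X.left := (snd (nrm G) X).left
  let X₀ : N.left → Over S := fun n => Over.mk ((V (q n)).ι ≫ X.hom)
  let j : ∀ n, X₀ n ⟶ X := fun n => Over.homMk (V (q n)).ι
  let O : N.left → N.left.Opens := fun n => q ⁻¹ᵁ V (q n)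
  let W : N.left → Over S := fun n => Over.mk ((O n).ι ≫ N.hom)
  let i : ∀ n, W n ⟶ N := fun n => Over.homMk (O n).ι
  have hr : ∀ n, Set.range ((O n).ι ≫ q) ⊆ Set.range (V (q n)).ι := by
    rintro n _ ⟨y, rfl⟩
    rw [Scheme.Opens.range_ι, Scheme.Hom.comp_apply]
    exact y.2
  let s : ∀ n, W n ⟶ X₀ n := fun n => Over.homMk (IsOpenImmersion.lift (V (q n)).ι ((O n).ι ≫ q) (hr n)) (by
    change IsOpenImmersion.lift (V (q n)).ι ((O n).ι ≫ q) (hr n) ≫ (V (q n)).ι ≫ X.hom = (O n).ι ≫ N.hom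
    rw [← Category.assoc, IsOpenImmersion.lift_fac, Category.assoc]
    congr 1
    exact Over.w (snd (nrm G) X))
  have hs : ∀ n, s n ≫ j n = i n ≫ snd (nrm G) X := fun n =>
    Over.OverMorphism.ext (IsOpenImmersion.lift_fac _ _ _)
  let k : ∀ n, W n ⟶ nrm G ⊗ X₀ n := fun n => CartesianMonoidalCategory.lift (i n ≫ fst (nrm G) X) (s n)
  have hk : ∀ n, k n ≫ (nrm G ◁ j n) = i n := by
    intro n
    apply CartesianMonoidalCategory.hom_ext
    · simp only [k, Category.assoc, whiskerLeft_fst, CartesianMonoidalCategory.lift_fst]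
    · simp only [k, Category.assoc, whiskerLeft_snd, CartesianMonoidalCategory.lift_snd_assoc, hs]
  let 𝒰 : N.left.OpenCover := {
    I₀ := N.left, X n := (O n), f n := (O n).ι,
    mem₀ := by
      rw [Scheme.presieve₀_mem_precoverage_iff]
      refine ⟨fun x ↦ ⟨x, ?_⟩, inferInstance⟩
      rw [Scheme.Opens.range_ι]
      exact hV (q x) }
  let φ : ∀ n, 𝒰.X n ⟶ A.left := fun n => (k n ≫ a' (q n)).left
  have hφ : ∀ m n, pullback.fst (𝒰.f m) (𝒰.f n) ≫ φ m = pullback.snd (𝒰.f m) (𝒰.f n) ≫ φ n := by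
    intro m n
    let P : Over S := Over.mk (pullback.fst (𝒰.f m) (𝒰.f n) ≫ 𝒰.f m ≫ N.hom)
    let p₁ : P ⟶ W m := Over.homMk (pullback.fst (𝒰.f m) (𝒰.f n))
    let p₂ : P ⟶ W n := Over.homMk (pullback.snd (𝒰.f m) (𝒰.f n)) (by
      change pullback.snd (𝒰.f m) (𝒰.f n) ≫ 𝒰.f n ≫ N.hom = pullback.fst (𝒰.f m) (𝒰.f n) ≫ 𝒰.f m ≫ N.hom
      rw [pullback.condition_assoc])
    have hp : p₁ ≫ i m = p₂ ≫ i n := Over.OverMorphism.ext pullback.condition
    have hfl : Flat (p₁ ≫ i m).left := by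
      have h1 : IsOpenImmersion (pullback.fst (𝒰.f m) (𝒰.f n) ≫ 𝒰.f m) := inferInstance
      exact Flat.instOfIsOpenImmersion (pullback.fst (𝒰.f m) (𝒰.f n) ≫ 𝒰.f m)
    have := unique_local G X A a (j m) (a' (q m)) (ha' (q m)) (j n) (a' (q n)) (ha' (q n)) (p₁ ≫ i m)
      (p₁ ≫ k m) (by rw [Category.assoc, hk]) (p₂ ≫ k n) (by rw [Category.assoc, hk, hp])
    rw [Category.assoc, Category.assoc] at this
    exact congrArg (fun t => t.left) this
  let g : N.left ⟶ A.left := 𝒰.glueMorphisms φ hφ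
  have hg : ∀ n, (O n).ι ≫ g = (k n ≫ a' (q n)).left := fun n => Scheme.Cover.ι_glueMorphisms 𝒰 φ hφ n
  let b : N ⟶ A := Over.homMk g (by
    refine 𝒰.hom_ext _ _ fun n => ?_
    change (O n).ι ≫ g ≫ A.hom = (O n).ι ≫ N.hom
    rw [← Category.assoc, hg, Over.w]
    rfl)
  have hb : ∀ n, i n ≫ b = k n ≫ a' (q n) := fun n => Over.OverMorphism.ext (hg n)
  refine ⟨b, Over.OverMorphism.ext ?_⟩
  let c : (G ⊗ X).left ⟶ N.left := (toNrm G ▷ X).left
  refine Scheme.Cover.hom_ext (𝒰.pullback₁ c) _ _ fun (n : N.left) => ?_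
  let D : Over S := Over.mk (pullback.fst c (𝒰.f n) ≫ (G ⊗ X).hom)
  let e : D ⟶ G ⊗ X := Over.homMk (pullback.fst c (𝒰.f n))
  let d : D ⟶ W n := Over.homMk (pullback.snd c (𝒰.f n)) (by
    change pullback.snd c (𝒰.f n) ≫ 𝒰.f n ≫ N.hom = pullback.fst c (𝒰.f n) ≫ (G ⊗ X).hom
    rw [← pullback.condition_assoc]
    congr 1
    exact Over.w (toNrm G ▷ X))
  have hde : d ≫ i n = e ≫ (toNrm G ▷ X) := Over.OverMorphism.ext pullback.condition.symm
  have h1 := value G X A a (j n) (a' (q n)) (ha' (q n)) (i n) (k n) (hk n) d e hde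
  rw [← hb, ← Category.assoc, hde, Category.assoc] at h1
  exact congrArg (fun t => t.left) h1

end Glue

/-- **Extension to the normalization.** -/
theorem exists_ext [IsIntegral S] [IsLocallyNoetherian S]
    (hS : ∀ s : S, CAlg2.IsGeomUnibranch (S.presheaf.stalk s)) (G : Over S)
    (hG : G = Over.mk (S.fromSpecStalk (genericPoint S))) [QuasiCompact G.hom] [QuasiSeparated G.hom]
    {X A : Over S} [Smooth X.hom] [IsProper A.hom] (a : G ⊗ X ⟶ A) (H : DvrHyp a) :
    ∃ a' : nrm G ⊗ X ⟶ A, (toNrm G ▷ X) ≫ a' = a := by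
  subst hG
  refine exists_glue _ X A a fun x => ?_
  have hX : IsLocallyNoetherian X.left := LocallyOfFiniteType.isLocallyNoetherian X.hom
  obtain ⟨V, hxV, hV⟩ := UniDom.exists_integral_nhd X.hom hS x
  refine ⟨V, hxV, ?_⟩
  have h1 : IsIntegral (Over.mk (V.ι ≫ X.hom)).left := hV
  have h2 : Smooth (Over.mk (V.ι ≫ X.hom)).hom := inferInstanceAs (Smooth (V.ι ≫ X.hom))
  exact exists_ext_local (X := Over.mk (V.ι ≫ X.hom)) _ (H.restrict _)

end K234.NrmExt
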